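import Mathlib.RingTheory.Etale.QuasiFinite
import Mathlib.RingTheory.Flat.Equalizer
import Mathlib.RingTheory.RingHom.Flat
import Mathlib.RingTheory.Ideal.GoingUp
import Mathlib.RingTheory.Smooth.Flat

/-!
# Fibres of the equalizer of two maps of integral algebras with finite fibres
-/

universe u

open TensorProduct

namespace Groth.Agent.Lib.IntCoeq.Alg

variable {A B C : Type u} [CommRing A] [CommRing B] [CommRing C] [Algebra A B] [Algebra A C]

/-- Two idempotents agreeing at all primes over a prime `p` agree after multiplying by some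
element outside `p`. -/
theorem exists_smul_sub_eq_zero [Algebra.IsIntegral A C] (p : Ideal A) [p.IsPrime] {a b : C}
    (ha : IsIdempotentElem a) (hb : IsIdempotentElem b)
    (h : ∀ r : Ideal C, r.IsPrime → r.LiesOver p → (a ∈ r ↔ b ∈ r)) :
    ∃ c, c ∉ p ∧ algebraMap A C c * (a - b) = 0 := by
  have ha' : a * a = a := ha
  have hb' : b * b = b := hb
  set g : C := (a - b) * (a - b) with hg
  have hdg : (a - b) * g = a - b := by
    rw [hg]
    linear_combination (a + 1 - 3 * b) * ha' + (3 * a - b - 1) * hb'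
  have hmem : ∀ r : Ideal C, r.IsPrime → r.LiesOver p → a - b ∈ r := fun r hr hrp => by
    by_cases hra : a ∈ r
    · exact r.sub_mem hra ((h r hr hrp).mp hra)
    · have hrb : b ∉ r := fun hb => hra ((h r hr hrp).mpr hb)
      have h1 : a - 1 ∈ r := (hr.mem_or_mem (show a * (a - 1) ∈ r by
        rw [mul_sub, mul_one, ha', sub_self]; exact r.zero_mem)).resolve_left hra
      have h2 : b - 1 ∈ r := (hr.mem_or_mem (show b * (b - 1) ∈ r by
        rw [mul_sub, mul_one, hb', sub_self]; exact r.zero_mem)).resolve_left hrb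
      simpa using r.sub_mem h1 h2
  have hker : ¬ (Ideal.span ({1 - g} : Set C)).comap (algebraMap A C) ≤ p := fun hle => by
    obtain ⟨r, hr, hrp, hrA⟩ :=
      Ideal.exists_ideal_over_prime_of_isIntegral p (Ideal.span ({1 - g} : Set C)) hle
    have hgr : g ∈ r := r.mul_mem_left _ (hmem r hrp ⟨hrA.symm⟩)
    exact hrp.one_notMem (by
      simpa using r.add_mem hgr (hr (Ideal.subset_span (Set.mem_singleton _))))
  obtain ⟨c, hc, hcp⟩ := Set.not_subset.mp hker
  refine ⟨c, hcp, ?_⟩
  obtain ⟨t, ht⟩ := Ideal.mem_span_singleton'.mp (Ideal.mem_comap.mp hc)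
  rw [← ht, mul_assoc, sub_mul, one_mul, mul_comm g, hdg, sub_self, mul_zero]

/-- In a finite set of primes, finitely many elements separate the primes. -/
theorem exists_finset_separating {s : Set (Ideal B)} (hs : s.Finite) :
    ∃ T : Finset B, ∀ I ∈ s, ∀ J ∈ s, (∀ t ∈ T, t ∈ I ↔ t ∈ J) → I = J := by
  classical
  have : ∀ q : Ideal B × Ideal B, ∃ t : B, q.1 ≠ q.2 → ¬ (t ∈ q.1 ↔ t ∈ q.2) := fun q => by
    by_cases hq : q.1 = q.2
    · exact ⟨0, fun h => absurd hq h⟩
    · obtain ⟨t, ht⟩ : ∃ t, ¬ (t ∈ q.1 ↔ t ∈ q.2) := by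
        by_contra! hc
        exact hq (Ideal.ext hc)
      exact ⟨t, fun _ => ht⟩
  choose t ht using this
  refine ⟨(hs.prod hs).toFinset.image t, fun I hI J hJ hIJ => ?_⟩
  by_contra hne
  exact ht (I, J) hne (hIJ _ (Finset.mem_image_of_mem _ ((hs.prod hs).mem_toFinset.mpr ⟨hI, hJ⟩)))

theorem liesOver_comap {R S T : Type u} [CommRing R] [CommRing S] [CommRing T] [Algebra R S]
    [Algebra R T] (f : S →ₐ[R] T) {P : Ideal R} {r : Ideal T} (h : r.LiesOver P) :
    (r.comap f.toRingHom).LiesOver P := by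
  refine ⟨h.over.trans ?_⟩
  ext a
  simp [Ideal.under]

/-- The relation on primes of `B` defined by two maps to `C`. -/
def Rel (φ ψ : B →ₐ[A] C) (x x' : Ideal B) : Prop :=
  ∃ r : Ideal C, r.IsPrime ∧ r.comap φ.toRingHom = x ∧ r.comap ψ.toRingHom = x'

variable [Algebra.IsIntegral A B] [Algebra.IsIntegral A C]

/-- Primes over the same prime of the equalizer are related. -/
theorem rel_of_comap_eq (φ ψ : B →ₐ[A] C) (p : Ideal A) [p.IsPrime]
    (hfin : (p.primesOver B).Finite)
    (refl : ∀ x : Ideal B, x.IsPrime → Rel φ ψ x x)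
    (symm : ∀ x y : Ideal B, Rel φ ψ x y → Rel φ ψ y x)
    (trans : ∀ x y z : Ideal B, Rel φ ψ x y → Rel φ ψ y z → Rel φ ψ x z)
    (x x' : Ideal B) [x.IsPrime] [x'.IsPrime] [x.LiesOver p] [x'.LiesOver p]
    (hE : x.comap (AlgHom.equalizer φ ψ).val.toRingHom =
      x'.comap (AlgHom.equalizer φ ψ).val.toRingHom) :
    Rel φ ψ x x' := by
  classical
  by_contra hne
  obtain ⟨T, hT⟩ := exists_finset_separating hfin
  let B₀ : Subalgebra A B := Algebra.adjoin A (T : Set B)
  haveI : Module.Finite A B₀ := Algebra.finite_adjoin_of_finite_of_isIntegral T.finite_toSet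
    fun b _ => Algebra.IsIntegral.isIntegral b
  obtain ⟨R, _, _, _, P, _, _, n, e, he, P', _, _, hκ, -, hP⟩ :=
    Algebra.exists_etale_completeOrthogonalIdempotents_forall_liesOver_eq (S := B₀) p
  let ι : R ⊗[A] B₀ →ₐ[R] R ⊗[A] B := Algebra.TensorProduct.map (AlgHom.id R R) B₀.val
  -- the idempotent cutting out the class of `x`
  let I : Finset (Fin n) := Finset.univ.filter fun i => ∃ y ∈ p.primesOver B, Rel φ ψ x y ∧
    y.comap B₀.val.toRingHom =
      (P' i).comap (Algebra.TensorProduct.includeRight : B₀ →ₐ[A] R ⊗[A] B₀).toRingHom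
  let ε₀ : R ⊗[A] B₀ := ∑ i ∈ I, e i.castSucc
  let ε : R ⊗[A] B := ι ε₀
  have hε : ∀ r : Ideal (R ⊗[A] B), r.IsPrime → r.LiesOver P →
      (ε ∈ r ↔ ¬ Rel φ ψ x
        (r.comap (Algebra.TensorProduct.includeRight : B →ₐ[A] R ⊗[A] B).toRingHom)) := by
    intro r hr hrP
    let y := r.comap (Algebra.TensorProduct.includeRight : B →ₐ[A] R ⊗[A] B).toRingHom
    have hy : y ∈ p.primesOver B := by
      refine ⟨inferInstance, ⟨?_⟩⟩
      rw [P.over_def p, r.over_def P]
      simp only [Ideal.under, y, Ideal.comap_comap]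
      congr 1
      exact RingHom.ext fun a => ((Algebra.TensorProduct.includeRight.commutes a).trans
        (IsScalarTower.algebraMap_apply A R (R ⊗[A] B) a)).symm
    let r₀ : Ideal (R ⊗[A] B₀) := r.comap ι.toRingHom
    haveI : r₀.IsPrime := inferInstanceAs (r.comap ι.toRingHom).IsPrime
    haveI : r₀.LiesOver P := liesOver_comap ι hrP
    have hy₀ : y.comap B₀.val.toRingHom =
        r₀.comap (Algebra.TensorProduct.includeRight : B₀ →ₐ[A] R ⊗[A] B₀).toRingHom := by
      simp only [y, r₀, Ideal.comap_comap]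
      congr 1
    obtain ⟨hlast, hall⟩ := hP r₀ inferInstance inferInstance
    obtain ⟨i, hi⟩ : ∃ i : Fin n, e i.castSucc ∉ r₀ := by
      by_contra! hc
      apply (‹r₀.IsPrime›).one_notMem
      rw [← he.complete, Fin.sum_univ_castSucc]
      exact add_mem (sum_mem fun j _ => hc j) hlast
    have hr₀ : r₀ = P' i := hall i hi
    show ε₀ ∈ r₀ ↔ _
    by_cases hiI : i ∈ I
    · obtain ⟨y', hy', hxy', hy'₀⟩ := (Finset.mem_filter.mp hiI).2
      have : y = y' := hT y hy y' hy' fun t ht => by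
        have h2 : y.comap B₀.val.toRingHom = y'.comap B₀.val.toRingHom := by
          rw [hy'₀, hy₀, hr₀]
        exact SetLike.ext_iff.mp h2 ⟨t, Algebra.subset_adjoin ht⟩
      refine iff_of_false (fun hmem => hi ?_) (not_not.mpr (by change Rel φ ψ x y; rw [this]; exact hxy'))
      have h1 : ε₀ * e i.castSucc = e i.castSucc := by
        simp only [ε₀, Finset.sum_mul]
        rw [Finset.sum_eq_single i (fun j _ hj => he.ortho (by simpa using hj))
          (fun h => absurd hiI h)]
        exact he.idem _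
      rw [← h1]
      exact r₀.mul_mem_right _ hmem
    · refine iff_of_true ((‹r₀.IsPrime›.mem_or_mem (?_ : ε₀ * e i.castSucc ∈ r₀)).resolve_right hi)
        fun hxy => hiI (Finset.mem_filter.mpr ⟨Finset.mem_univ _, y, hy, hxy, by rw [hy₀, hr₀]⟩)
      simp only [ε₀, Finset.sum_mul]
      exact sum_mem fun j hj => by
        rw [he.ortho (by simpa using (fun h => hiI (h ▸ hj) : j ≠ i))]
        exact r₀.zero_mem
  -- a multiple of the idempotent lies in the equalizer
  let Φ : R ⊗[A] B →ₐ[R] R ⊗[A] C := Algebra.TensorProduct.map (AlgHom.id R R) φ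
  let Ψ : R ⊗[A] B →ₐ[R] R ⊗[A] C := Algebra.TensorProduct.map (AlgHom.id R R) ψ
  have hidem : IsIdempotentElem ε := by
    have h0 : ε₀ * ε₀ = ε₀ := by
      simp only [ε₀, Finset.sum_mul]
      refine Finset.sum_congr rfl fun i hi => ?_
      rw [Finset.mul_sum, Finset.sum_eq_single i (fun j _ hj => he.ortho (by simpa using fun h : i = j => hj h.symm))
        (fun h => absurd hi h)]
      exact he.idem _
    show ι ε₀ * ι ε₀ = ι ε₀
    rw [← map_mul, h0]
  haveI : Algebra.IsIntegral R (R ⊗[A] C) := inferInstance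
  obtain ⟨c, hcP, hc⟩ := exists_smul_sub_eq_zero P (hidem.map Φ) (hidem.map Ψ) fun r hr hrP => by
    haveI := hr
    haveI := hrP
    haveI : (r.comap Φ.toRingHom).LiesOver P := liesOver_comap Φ hrP
    haveI : (r.comap Ψ.toRingHom).LiesOver P := liesOver_comap Ψ hrP
    refine (hε (r.comap Φ.toRingHom) inferInstance inferInstance).trans
      (Iff.trans ?_ (hε (r.comap Ψ.toRingHom) inferInstance inferInstance).symm)
    have hrel : Rel φ ψ
        ((r.comap Φ.toRingHom).comap (Algebra.TensorProduct.includeRight : B →ₐ[A] R ⊗[A] B).toRingHom)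
        ((r.comap Ψ.toRingHom).comap (Algebra.TensorProduct.includeRight : B →ₐ[A] R ⊗[A] B).toRingHom) := by
      refine ⟨r.comap (Algebra.TensorProduct.includeRight : C →ₐ[A] R ⊗[A] C).toRingHom,
        inferInstance, ?_, ?_⟩ <;>
      · simp only [Ideal.comap_comap]
        congr 1
    exact not_congr ⟨fun h => trans _ _ _ h hrel, fun h => trans _ _ _ h (symm _ _ hrel)⟩
  let b : R ⊗[A] B := algebraMap R _ c * ε
  have hb : b ∈ AlgHom.equalizer Φ Ψ := by
    show Φ b = Ψ b
    rw [← sub_eq_zero, map_mul, map_mul, AlgHom.commutes, AlgHom.commutes, ← mul_sub]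
    exact hc
  obtain ⟨z, hz⟩ := (AlgHom.tensorEqualizerEquiv R R φ ψ).surjective ⟨b, hb⟩
  let v : R ⊗[A] AlgHom.equalizer φ ψ →ₐ[R] R ⊗[A] B :=
    Algebra.TensorProduct.map (AlgHom.id R R) (AlgHom.equalizer φ ψ).val
  have hzb : v z = b := by
    have := congrArg Subtype.val hz
    rwa [AlgHom.tensorEqualizerEquiv_apply, AlgHom.coe_tensorEqualizer] at this
  -- lift the two primes
  obtain ⟨⟨X, hX, hXP⟩, hXx⟩ : ∃ Q : P.primesOver (R ⊗[A] B), Q.1.comap
      (Algebra.TensorProduct.includeRight : B →ₐ[A] R ⊗[A] B).toRingHom = x :=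
    ⟨(Ideal.fiberIsoOfBijectiveResidueField (S := B) hκ).symm ⟨x, inferInstance, inferInstance⟩,
      Ideal.comap_fiberIsoOfBijectiveResidueField_symm hκ ⟨x, inferInstance, inferInstance⟩⟩
  obtain ⟨⟨X', hX', hX'P⟩, hXx'⟩ : ∃ Q : P.primesOver (R ⊗[A] B), Q.1.comap
      (Algebra.TensorProduct.includeRight : B →ₐ[A] R ⊗[A] B).toRingHom = x' :=
    ⟨(Ideal.fiberIsoOfBijectiveResidueField (S := B) hκ).symm ⟨x', inferInstance, inferInstance⟩,
      Ideal.comap_fiberIsoOfBijectiveResidueField_symm hκ ⟨x', inferInstance, inferInstance⟩⟩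
  dsimp only at hXx hXx'
  haveI : (X.comap v.toRingHom).LiesOver P := liesOver_comap v hXP
  haveI : (X'.comap v.toRingHom).LiesOver P := liesOver_comap v hX'P
  have hQ : X.comap v.toRingHom = X'.comap v.toRingHom := by
    refine Ideal.eq_of_comap_eq_comap_of_bijective_residueFieldMap hκ _ _ ?_
    have key : v.toRingHom.comp
        (Algebra.TensorProduct.includeRight : AlgHom.equalizer φ ψ →ₐ[A] _).toRingHom =
        (Algebra.TensorProduct.includeRight : B →ₐ[A] R ⊗[A] B).toRingHom.comp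
          (AlgHom.equalizer φ ψ).val.toRingHom := RingHom.ext fun a => by simp [v]
    rw [Ideal.comap_comap, Ideal.comap_comap, key, ← Ideal.comap_comap, ← Ideal.comap_comap,
      hXx, hXx', hE]
  have hεX : ε ∉ X := fun h => (hε X hX hXP).mp h (by rw [hXx]; exact refl x inferInstance)
  have hεX' : ε ∈ X' := (hε X' hX' hX'P).mpr (by rwa [hXx'])
  have h1 : z ∈ X'.comap v.toRingHom := by
    show v z ∈ X'
    rw [hzb]; exact X'.mul_mem_left _ hεX'
  rw [← hQ] at h1
  have h2 : b ∈ X := hzb ▸ (h1 : v z ∈ X)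
  rcases hX.mem_or_mem h2 with h3 | h3
  · exact hcP (by rw [X.over_def P]; exact h3)
  · exact hεX h3

end Groth.Agent.Lib.IntCoeq.Alg
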