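import Groth.Agent.Lib.IntCoeq.Alg
import Groth.Agent.Lib.FEt.Coequalizer
import Groth.Agent.Lib.Pinch.RingedPushoutOfGlued
import Mathlib.AlgebraicGeometry.Morphisms.Integral
import Mathlib.Geometry.RingedSpace.LocallyRingedSpace.HasColimits

/-!
# Coequalizers of ringed spaces of two maps of schemes integral over a base
-/

set_option linter.unusedSectionVars false
set_option linter.overlappingInstances false

universe u

open CategoryTheory CategoryTheory.Limits AlgebraicGeometry Opposite TopologicalSpace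
open AlgebraicGeometry.Scheme.AffineZariskiSite

namespace Groth.Agent.Lib.IntCoeq.Geom

open Groth.Agent.Lib

noncomputable section

section Sections

variable {Q X R : Scheme.{u}} (q : X ⟶ Q) (p₁ p₂ : R ⟶ X) (hq : p₁ ≫ q = p₂ ≫ q)

/-- Sections of `O_Q` to compatible sections on `X`. -/
abbrev α (O : Q.Opens) : Γ(Q, O) →+* FEt.Coequalizer.sub q p₁ p₂ hq O :=
  ((FEt.Coequalizer.diagramMap q p₁ p₂ hq).app (op O)).hom

theorem α_val (O : Q.Opens) (t : Γ(Q, O)) : (α q p₁ p₂ hq O t : Γ(X, q ⁻¹ᵁ O)) = q.app O t := rfl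

theorem α_res {U V : Q.Opens} (h : V ≤ U) (t : Γ(Q, U)) :
    α q p₁ p₂ hq V (Q.presheaf.map (homOfLE h).op t) =
      (FEt.Coequalizer.diagram q p₁ p₂ hq).map (homOfLE h).op (α q p₁ p₂ hq U t) :=
  congr($((FEt.Coequalizer.diagramMap q p₁ p₂ hq).naturality (homOfLE h).op) t)

variable [IsAffineHom q] [IsAffineHom p₁]

theorem bijective_basicOpen (U : Q.AffineZariskiSite) (s : Γ(Q, U.toOpens))
    (hU : Function.Bijective (α q p₁ p₂ hq U.toOpens)) :
    Function.Bijective (α q p₁ p₂ hq (Q.basicOpen s)) := by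
  have hloc := (coequifibered_iff_forall_isLocalizationAway.mp
    (FEt.Coequalizer.coequifibered q p₁ p₂ hq)) U s
  letI : Algebra (FEt.Coequalizer.sub q p₁ p₂ hq U.toOpens)
      (FEt.Coequalizer.sub q p₁ p₂ hq (Q.basicOpen s)) :=
    RingHom.toAlgebra ((FEt.Coequalizer.diagram q p₁ p₂ hq).map (homOfLE (Q.basicOpen_le s)).op).hom
  letI := (Q.presheaf.map (homOfLE (Q.basicOpen_le s)).op).hom.toAlgebra
  haveI : IsLocalization.Away s Γ(Q, Q.basicOpen s) := U.2.isLocalization_basicOpen s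
  haveI : IsLocalization.Away (α q p₁ p₂ hq U.toOpens s)
      (FEt.Coequalizer.sub q p₁ p₂ hq (Q.basicOpen s)) := hloc
  have hcomm : ∀ a, α q p₁ p₂ hq (Q.basicOpen s) (algebraMap Γ(Q, U.toOpens) _ a) =
      algebraMap (FEt.Coequalizer.sub q p₁ p₂ hq U.toOpens)
        (FEt.Coequalizer.sub q p₁ p₂ hq (Q.basicOpen s)) (α q p₁ p₂ hq U.toOpens a) :=
    fun a => α_res q p₁ p₂ hq (Q.basicOpen_le s) a
  have hu : IsUnit (algebraMap Γ(Q, U.toOpens) Γ(Q, Q.basicOpen s) s) :=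
    IsLocalization.Away.algebraMap_isUnit s
  constructor
  · rw [injective_iff_map_eq_zero]
    intro t ht
    obtain ⟨n, a, ha⟩ := IsLocalization.Away.surj (S := Γ(Q, Q.basicOpen s)) s t
    have h0 : algebraMap _ (FEt.Coequalizer.sub q p₁ p₂ hq (Q.basicOpen s))
        (α q p₁ p₂ hq U.toOpens a) =
        algebraMap (FEt.Coequalizer.sub q p₁ p₂ hq U.toOpens) _ 0 := by
      rw [← hcomm, ← ha, map_mul, ht, zero_mul, map_zero]
    obtain ⟨m, hm⟩ := IsLocalization.Away.exists_of_eq (α q p₁ p₂ hq U.toOpens s) h0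
    rw [← map_pow, ← map_mul, mul_zero] at hm
    have h1 : s ^ m * a = 0 := hU.1 (hm.trans (map_zero _).symm)
    have h2 : algebraMap _ Γ(Q, Q.basicOpen s) s ^ m *
        algebraMap _ Γ(Q, Q.basicOpen s) a = 0 := by
      rw [← map_pow, ← map_mul, h1, map_zero]
    rw [← ha] at h2
    exact (hu.pow n).mul_left_eq_zero.mp ((hu.pow m).mul_right_eq_zero.mp h2)
  · intro y
    obtain ⟨n, c, hc⟩ := IsLocalization.Away.surj (α q p₁ p₂ hq U.toOpens s) y
    obtain ⟨a, rfl⟩ := hU.2 c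
    obtain ⟨v, hv⟩ := (hu.pow n).exists_right_inv
    refine ⟨algebraMap _ _ a * v, ?_⟩
    rw [map_mul, hcomm, ← hc, ← hcomm, ← map_pow (α q p₁ p₂ hq (Q.basicOpen s)), mul_assoc,
      ← map_mul, hv, map_one, mul_one]

/-- Compatible sections descend, if they do on basic opens forming a basis. -/
theorem bijective_all
    (hbasis : ∀ (O : Q.Opens) (x : Q), x ∈ O →
      ∃ D : Q.Opens, x ∈ D ∧ D ≤ O ∧ Function.Bijective (α q p₁ p₂ hq D))
    (O : Q.Opens) : Function.Bijective (α q p₁ p₂ hq O) := by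
  have hinj : ∀ O : Q.Opens, Function.Injective (α q p₁ p₂ hq O) := by
    intro O t t' h
    choose D hxD hDO hD using fun x : O => hbasis O x.1 x.2
    refine TopCat.Sheaf.eq_of_locally_eq' Q.sheaf D O (fun x => homOfLE (hDO x))
      (fun x hx => Opens.mem_iSup.mpr ⟨⟨x, hx⟩, hxD ⟨x, hx⟩⟩) t t' fun x => (hD x).1 ?_
    exact (α_res q p₁ p₂ hq (hDO x) t).trans ((congrArg _ h).trans (α_res q p₁ p₂ hq (hDO x) t').symm)
  refine ⟨hinj O, fun y => ?_⟩
  choose D hxD hDO hD using fun x : O => hbasis O x.1 x.2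
  have hcov : O ≤ ⨆ x, D x := fun x hx => Opens.mem_iSup.mpr ⟨⟨x, hx⟩, hxD ⟨x, hx⟩⟩
  choose t ht using fun x : O =>
    (hD x).2 ((FEt.Coequalizer.diagram q p₁ p₂ hq).map (homOfLE (hDO x)).op y)
  obtain ⟨s, hs, -⟩ := TopCat.Sheaf.existsUnique_gluing' Q.sheaf D O (fun x => homOfLE (hDO x))
    hcov t fun x x' => by
      apply hinj
      refine (α_res q p₁ p₂ hq inf_le_left _).trans (Eq.trans ?_ (α_res q p₁ p₂ hq inf_le_right _).symm)
      rw [ht, ht, ← CommRingCat.comp_apply, ← CommRingCat.comp_apply, ← Functor.map_comp,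
        ← Functor.map_comp]
      rfl
  refine ⟨s, Subtype.ext ?_⟩
  refine TopCat.Sheaf.eq_of_locally_eq' X.sheaf (fun x => q ⁻¹ᵁ D x) _
    (fun x => homOfLE (Scheme.Hom.preimage_mono q (hDO x))) (fun z hz => ?_) _ _ fun x => ?_
  · obtain ⟨x, hx⟩ := Opens.mem_iSup.mp (hcov hz)
    exact Opens.mem_iSup.mpr ⟨x, hx⟩
  · exact congrArg Subtype.val ((α_res q p₁ p₂ hq (hDO x) s).symm.trans
      ((congrArg (α q p₁ p₂ hq (D x)) (hs x)).trans (ht x)))

variable (hsurj : Function.Surjective q) (hclosed : IsClosedMap q)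
  (hfib : ∀ x x' : X, q x = q x' → ∃ r : R, p₁ r = x ∧ p₂ r = x')
  (hsec : ∀ O : Q.Opens, Function.Bijective (α q p₁ p₂ hq O))

include hsurj hclosed hfib hsec in
/-- A quotient with these properties is a coequalizer of ringed spaces. -/
theorem nonempty_isColimit
    (w : Pinch.RingedPushout.toSS.map p₁ ≫ Pinch.RingedPushout.toSS.map q =
      Pinch.RingedPushout.toSS.map p₂ ≫ Pinch.RingedPushout.toSS.map q) :
    Nonempty (IsColimit (Cofork.ofπ (Pinch.RingedPushout.toSS.map q) w)) := by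
  have w' : p₁.toPshHom ≫ q.toPshHom = p₂.toPshHom ≫ q.toPshHom :=
    congrArg (fun f : R ⟶ Q => f.toPshHom) hq
  refine ⟨isColimitOfIsColimitCoforkMap SheafedSpace.forgetToPresheafedSpace w ?_⟩
  show IsColimit (Cofork.ofπ q.toPshHom w')
  refine Cofork.IsColimit.mk' _ fun s => Classical.indefiniteDescription _ ?_
  -- the map on spaces
  obtain ⟨g, hg⟩ := hsurj.hasRightInverse
  have hqt : Topology.IsQuotientMap q := hclosed.isQuotientMap q.continuous hsurj
  have hfq : ∀ x, s.π.base (g (q x)) = s.π.base x := fun x => by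
    obtain ⟨r, hr₁, hr₂⟩ := hfib (g (q x)) x (hg _)
    rw [← hr₁, ← hr₂]
    exact congr(($s.condition).base r)
  have hcont : Continuous fun y => s.π.base (g y) := hqt.continuous_iff.mpr (by
    simpa only [Function.comp_def, hfq] using s.π.base.hom.continuous)
  let f : Q.toPresheafedSpace.carrier ⟶ s.pt.carrier := TopCat.ofHom ⟨_, hcont⟩
  have eX : ∀ V : Opens s.pt.carrier, q ⁻¹ᵁ (Opens.map f).obj V = (Opens.map s.π.base).obj V :=
    fun V => by ext x; exact iff_of_eq (congrArg (· ∈ V) (hfq x))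
  let xV : ∀ V : (Opens s.pt.carrier)ᵒᵖ, s.pt.presheaf.obj V ⟶ Γ(X, q ⁻¹ᵁ (Opens.map f).obj V.unop) :=
    fun V => s.π.c.app V ≫ X.presheaf.map (eqToHom (eX V.unop)).op
  have hag : ∀ V t, xV V t ∈ FEt.Coequalizer.sub q p₁ p₂ hq ((Opens.map f).obj V.unop) := fun V t => by
    show FEt.Coequalizer.fApp q p₁ _ _ = FEt.Coequalizer.gApp q p₁ p₂ hq _ _
    have e := congr($(PresheafedSpace.congr_app s.condition V) t)
    simp only [PresheafedSpace.comp_c_app, CommRingCat.comp_apply] at e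
    simp only [xV, CommRingCat.comp_apply, FEt.Coequalizer.fApp, FEt.Coequalizer.gApp]
    rw [← CommRingCat.comp_apply _ (p₁.appLE _ _ _), ← CommRingCat.comp_apply _ (p₂.appLE _ _ _),
      Scheme.Hom.map_appLE, Scheme.Hom.map_appLE, Scheme.Hom.appLE, Scheme.Hom.appLE,
      CommRingCat.comp_apply, CommRingCat.comp_apply]
    refine (congrArg (R.presheaf.map _) e).trans ?_
    exact (congr($(R.presheaf.map_comp _ _) _)).symm
  choose σ hσ using fun V t => (hsec ((Opens.map f).obj V.unop)).2 ⟨xV V t, hag V t⟩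
  have hσ' : ∀ V t, q.app ((Opens.map f).obj V.unop) (σ V t) = xV V t :=
    fun V t => congrArg Subtype.val (hσ V t)
  have hext : ∀ {O : Q.Opens} {t t' : Γ(Q, O)}, q.app O t = q.app O t' → t = t' :=
    fun h => (hsec _).1 (Subtype.ext h)
  let C : ∀ V : (Opens s.pt.carrier)ᵒᵖ, s.pt.presheaf.obj V ⟶ Γ(Q, (Opens.map f).obj V.unop) :=
    fun V => CommRingCat.ofHom
      { toFun := σ V
        map_one' := hext (by simp [hσ'])
        map_mul' := fun t t' => hext (by simp [hσ'])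
        map_zero' := hext (by simp [hσ'])
        map_add' := fun t t' => hext (by simp [hσ']) }
  let m : Q.toPresheafedSpace ⟶ s.pt :=
    { base := f
      c :=
        { app := C
          naturality := fun V V' r => by
            refine CommRingCat.hom_ext (RingHom.ext fun t => hext ?_)
            refine (hσ' V' _).trans (Eq.trans ?_
              (congr($(q.naturality (homOfLE (leOfHom ((Opens.map f).map r.unop))).op) (σ V t))).symm)
            simp only [CommRingCat.comp_apply]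
            erw [hσ']
            simp only [xV, CommRingCat.comp_apply]
            refine (congrArg (X.presheaf.map _) (congr($(s.π.c.naturality r) t))).trans ?_
            exact Pinch.RingedPushout.map_map_eq _ _ _ _ _ } }
  refine ⟨m, ?_, fun {m'} hm' => ?_⟩
  · refine PresheafedSpace.ext _ _ (TopCat.ext hfq) (NatTrans.ext (funext fun V =>
      CommRingCat.hom_ext (RingHom.ext fun t => ?_)))
    refine (congrArg (X.presheaf.map _) (hσ' V t)).trans ?_
    exact Pinch.RingedPushout.map_map_endo _ _ _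
  · have hbase : m'.base = f := TopCat.ext fun y => by
      obtain ⟨x, rfl⟩ := hsurj y
      exact (congr(($hm').base x)).trans (hfq x).symm
    refine PresheafedSpace.ext _ _ hbase (NatTrans.ext (funext fun V =>
      CommRingCat.hom_ext (RingHom.ext fun t => hext ?_)))
    refine Eq.trans ?_ (hσ' V t).symm
    refine (Pinch.RingedPushout.app_res q _ _).trans ?_
    have e := congr($(PresheafedSpace.congr_app hm' V) t)
    simp only [PresheafedSpace.comp_c_app, CommRingCat.comp_apply] at e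
    refine (congrArg (X.presheaf.map _) e).trans ?_
    simp only [xV, CommRingCat.comp_apply]
    exact (congr($(X.presheaf.map_comp _ _) _)).symm

end Sections

section Main

variable {S X R : Scheme.{u}} (f : X ⟶ S) (p₁ p₂ : R ⟶ X) (hp : p₁ ≫ f = p₂ ≫ f)
  [IsIntegralHom f] [IsIntegralHom p₁]

/-- The coequalizer. -/
abbrev Y : Scheme.{u} := FEt.Coequalizer.Q f p₁ p₂ hp

/-- Its structure map. -/
abbrev h : Y f p₁ p₂ hp ⟶ S := FEt.Coequalizer.q f p₁ p₂ hp

/-- The projection. -/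
abbrev π : X ⟶ Y f p₁ p₂ hp := FEt.Coequalizer.proj f p₁ p₂ hp

theorem isIntegralHom_h : IsIntegralHom (h f p₁ p₂ hp) := by
  refine FEt.Coequalizer.prop_q f p₁ p₂ hp @IsIntegralHom fun U => ?_
  refine (IsIntegralHom.SpecMap_iff).mpr ?_
  rintro ⟨x, hx⟩
  obtain ⟨P, hPm, hP⟩ := IsIntegralHom.isIntegral_app f U.1 U.2 x
  refine ⟨P, hPm, Subtype.ext ?_⟩
  have := Polynomial.hom_eval₂ P ((FEt.Coequalizer.diagramMap f p₁ p₂ hp).app (op U.1)).hom
    (FEt.Coequalizer.sub f p₁ p₂ hp U.1).subtype ⟨x, hx⟩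
  exact this.trans hP

theorem isIntegralHom_π : IsIntegralHom (π f p₁ p₂ hp) := by
  haveI := isIntegralHom_h f p₁ p₂ hp
  have : IsIntegralHom (π f p₁ p₂ hp ≫ h f p₁ p₂ hp) := by
    rw [π, h, FEt.Coequalizer.proj_q]; infer_instance
  exact MorphismProperty.of_postcomp @IsIntegralHom _ _ (W' := @IsSeparated)
    (inferInstanceAs (IsSeparated (h f p₁ p₂ hp))) this

theorem surjective_π : Function.Surjective (π f p₁ p₂ hp) := fun y => by
  obtain ⟨U, z, rfl⟩ := (FEt.Coequalizer.cover f p₁ p₂ hp).exists_eq y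
  have hint : (FEt.Coequalizer.sub f p₁ p₂ hp U.toOpens).subtype.IsIntegral := fun b => by
    obtain ⟨P, hPm, hP⟩ := IsIntegralHom.isIntegral_app f U.toOpens U.2 b
    refine ⟨P.map ((FEt.Coequalizer.diagramMap f p₁ p₂ hp).app (op U.toOpens)).hom, hPm.map _, ?_⟩
    rw [Polynomial.eval₂_map]; exact hP
  have hsurj : Function.Surjective
      (PrimeSpectrum.comap (FEt.Coequalizer.sub f p₁ p₂ hp U.toOpens).subtype) :=
    hint.comap_surjective Subtype.val_injective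
  obtain ⟨w, hw⟩ := hsurj z
  refine ⟨(U.2.preimage f).fromSpec w, ?_⟩
  rw [← Scheme.Hom.comp_apply, π, ← FEt.Coequalizer.incl_ι f p₁ p₂ hp ⟨U.toOpens, U.2⟩,
    Scheme.Hom.comp_apply]
  exact congrArg _ hw

theorem bijective_chart (U : S.affineOpens) :
    Function.Bijective (α (π f p₁ p₂ hp) p₁ p₂ (FEt.Coequalizer.condition f p₁ p₂ hp)
      (h f p₁ p₂ hp ⁻¹ᵁ U.1)) := by
  let W := h f p₁ p₂ hp ⁻¹ᵁ U.1
  have hW : W = (FEt.Coequalizer.ι f p₁ p₂ hp U).opensRange := FEt.Coequalizer.q_preimage f p₁ p₂ hp U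
  have hpre : π f p₁ p₂ hp ⁻¹ᵁ W = f ⁻¹ᵁ U.1 := by
    rw [← Scheme.Hom.comp_preimage, π, h, FEt.Coequalizer.proj_q]
  have htop : (⊤ : (Spec (CommRingCat.of (FEt.Coequalizer.sub f p₁ p₂ hp U.1))).Opens) ≤
      FEt.Coequalizer.ι f p₁ p₂ hp U ⁻¹ᵁ W := by
    rw [hW, Scheme.Hom.preimage_opensRange]
  haveI : IsIso ((FEt.Coequalizer.ι f p₁ p₂ hp U).app W) :=
    (FEt.Coequalizer.ι f p₁ p₂ hp U).isIso_app W hW.le
  haveI : IsIso ((FEt.Coequalizer.ι f p₁ p₂ hp U).appLE W ⊤ htop) := by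
    rw [Scheme.Hom.appLE]
    haveI : IsIso ((Spec (CommRingCat.of (FEt.Coequalizer.sub f p₁ p₂ hp U.1))).presheaf.map
        (homOfLE htop).op) := by
      have e : FEt.Coequalizer.ι f p₁ p₂ hp U ⁻¹ᵁ W = ⊤ := top_le_iff.mp htop
      rw [show (homOfLE htop).op = (eqToHom e.symm).op from Subsingleton.elim _ _]
      infer_instance
    infer_instance
  let θ : Γ(Y f p₁ p₂ hp, W) ⟶ CommRingCat.of (FEt.Coequalizer.sub f p₁ p₂ hp U.1) :=
    (FEt.Coequalizer.ι f p₁ p₂ hp U).appLE W ⊤ htop ≫ (Scheme.ΓSpecIso _).hom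
  have hθ : θ ≫ CommRingCat.ofHom (FEt.Coequalizer.sub f p₁ p₂ hp U.1).subtype =
      (π f p₁ p₂ hp).appLE W (f ⁻¹ᵁ U.1) hpre.ge := by
    have hfs : (U.2.preimage f).fromSpec.appLE (f ⁻¹ᵁ U.1) ⊤
        (U.2.preimage f).fromSpec_preimage_self.ge ≫ (Scheme.ΓSpecIso _).hom = 𝟙 _ := by
      rw [Scheme.Hom.appLE, IsAffineOpen.fromSpec_app_self]
      simp only [Category.assoc]
      rw [← Functor.map_comp_assoc]
      erw [CategoryTheory.Functor.map_id]
      simp
    have e1 : (Spec.map (CommRingCat.ofHom (FEt.Coequalizer.sub f p₁ p₂ hp U.1).subtype) ≫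
        FEt.Coequalizer.ι f p₁ p₂ hp U).appLE W ⊤ (by
          rw [FEt.Coequalizer.incl_ι, Scheme.Hom.comp_preimage, hpre]
          exact (U.2.preimage f).fromSpec_preimage_self.ge) =
        ((U.2.preimage f).fromSpec ≫ π f p₁ p₂ hp).appLE W ⊤ (by
          rw [Scheme.Hom.comp_preimage, hpre]
          exact (U.2.preimage f).fromSpec_preimage_self.ge) :=
      FEt.Coequalizer.appLE_eq_of_eq (FEt.Coequalizer.incl_ι f p₁ p₂ hp U) _ _ _ _
    rw [← Scheme.Hom.appLE_comp_appLE _ _ W ⊤ ⊤ htop le_top,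
      ← Scheme.Hom.appLE_comp_appLE _ _ W (f ⁻¹ᵁ U.1) ⊤ hpre.ge
        (U.2.preimage f).fromSpec_preimage_self.ge] at e1
    have e2 := congrArg (· ≫ (Scheme.ΓSpecIso _).hom) e1
    simp only [Category.assoc] at e2
    erw [hfs, Category.comp_id] at e2
    refine Eq.trans ?_ e2
    simp only [θ, Category.assoc]
    rw [← Scheme.ΓSpecIso_naturality]
    simp [Scheme.Hom.appLE]
  have hθbij : Function.Bijective θ.hom :=
    ConcreteCategory.bijective_of_isIso θ
  have hval : ∀ t, (θ.hom t : Γ(X, f ⁻¹ᵁ U.1)) =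
      X.presheaf.map (homOfLE hpre.ge).op ((π f p₁ p₂ hp).app W t) := fun t =>
    DFunLike.congr_fun (congrArg CommRingCat.Hom.hom hθ) t
  have hrinj : Function.Injective (X.presheaf.map (homOfLE hpre.ge).op).hom := by
    rw [show (homOfLE hpre.ge).op = (eqToHom hpre.symm).op from Subsingleton.elim _ _]
    exact (ConcreteCategory.bijective_of_isIso _).1
  constructor
  · intro t t' ht
    exact hθbij.1 (Subtype.ext (by rw [hval, hval]; exact congrArg _ (congrArg Subtype.val ht)))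
  · rintro ⟨y, hy⟩
    have hy' : (X.presheaf.map (homOfLE hpre.ge).op).hom y ∈ FEt.Coequalizer.sub f p₁ p₂ hp U.1 := by
      show FEt.Coequalizer.fApp f p₁ _ _ = FEt.Coequalizer.gApp f p₁ p₂ hp _ _
      have e : (p₁ ≫ f) ⁻¹ᵁ U.1 ≤ (p₁ ≫ π f p₁ p₂ hp) ⁻¹ᵁ W := by
        rw [Scheme.Hom.comp_preimage, Scheme.Hom.comp_preimage, hpre]
      have hy2 := congrArg (R.presheaf.map (homOfLE e).op).hom
        (show FEt.Coequalizer.fApp (π f p₁ p₂ hp) p₁ W y =
          FEt.Coequalizer.gApp (π f p₁ p₂ hp) p₁ p₂ (FEt.Coequalizer.condition f p₁ p₂ hp) W y from hy)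
      rw [← CommRingCat.comp_apply, ← CommRingCat.comp_apply, FEt.Coequalizer.fApp,
        FEt.Coequalizer.gApp, Scheme.Hom.appLE_map, Scheme.Hom.appLE_map] at hy2
      rw [FEt.Coequalizer.fApp, FEt.Coequalizer.gApp, ← CommRingCat.comp_apply,
        ← CommRingCat.comp_apply, Scheme.Hom.map_appLE, Scheme.Hom.map_appLE]
      exact hy2
    obtain ⟨t, ht⟩ := hθbij.2 ⟨_, hy'⟩
    exact ⟨t, Subtype.ext (hrinj ((hval t).symm.trans (congrArg Subtype.val ht)))⟩

theorem bijective_α (O : (Y f p₁ p₂ hp).Opens) :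
    Function.Bijective (α (π f p₁ p₂ hp) p₁ p₂ (FEt.Coequalizer.condition f p₁ p₂ hp) O) := by
  haveI := isIntegralHom_π f p₁ p₂ hp
  haveI := isIntegralHom_h f p₁ p₂ hp
  refine bijective_all _ _ _ _ (fun O x hx => ?_) O
  obtain ⟨U, hU, hxU, -⟩ :=
    exists_isAffineOpen_mem_and_subset (x := h f p₁ p₂ hp x) (U := ⊤) trivial
  obtain ⟨s, hs, hxs⟩ := (hU.preimage (h f p₁ p₂ hp)).exists_basicOpen_le ⟨x, hx⟩ hxU
  exact ⟨_, hxs, hs, bijective_basicOpen _ _ _ _ ⟨_, hU.preimage (h f p₁ p₂ hp)⟩ s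
    (bijective_chart f p₁ p₂ hp ⟨U, hU⟩)⟩

theorem fibre_π (hfin : ∀ s : ↥S, (f ⁻¹' {s}).Finite)
    (heqv : Equivalence (fun x x' : ↥X => ∃ r : ↥R, p₁ r = x ∧ p₂ r = x'))
    (x x' : X) (hx : π f p₁ p₂ hp x = π f p₁ p₂ hp x') : ∃ r : R, p₁ r = x ∧ p₂ r = x' := by
  obtain ⟨U, hU, hxU, -⟩ := exists_isAffineOpen_mem_and_subset (x := f x) (U := ⊤) trivial
  have hfx : ∀ z, h f p₁ p₂ hp (π f p₁ p₂ hp z) = f z := fun z => by
    rw [← Scheme.Hom.comp_apply, π, h, FEt.Coequalizer.proj_q]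
  have hx'U : f x' ∈ U := by rw [← hfx, ← hx, hfx]; exact hxU
  let V := f ⁻¹ᵁ U
  have hV : IsAffineOpen V := hU.preimage f
  let W := (p₁ ≫ f) ⁻¹ᵁ U
  have hW : IsAffineOpen W := (hU.preimage f).preimage p₁
  letI : Algebra Γ(S, U) Γ(X, V) := (f.app U).hom.toAlgebra
  letI : Algebra Γ(S, U) Γ(R, W) := ((p₁ ≫ f).app U).hom.toAlgebra
  haveI : Algebra.IsIntegral Γ(S, U) Γ(X, V) := ⟨IsIntegralHom.isIntegral_app f U hU⟩
  haveI : Algebra.IsIntegral Γ(S, U) Γ(R, W) := ⟨IsIntegralHom.isIntegral_app (p₁ ≫ f) U hU⟩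
  let φ : Γ(X, V) →ₐ[Γ(S, U)] Γ(R, W) :=
    { (FEt.Coequalizer.fApp f p₁ U).hom with
      commutes' := fun a => congr($(FEt.Coequalizer.app_fApp f p₁ U) a) }
  let ψ : Γ(X, V) →ₐ[Γ(S, U)] Γ(R, W) :=
    { (FEt.Coequalizer.gApp f p₁ p₂ hp U).hom with
      commutes' := fun a => congr($(FEt.Coequalizer.app_gApp f p₁ p₂ hp U) a) }
  have e₁ : ∀ r, p₁ (hW.fromSpec r) = hV.fromSpec (PrimeSpectrum.comap φ.toRingHom r) := fun r =>
    (congr($(IsAffineOpen.SpecMap_appLE_fromSpec p₁ hV hW (FEt.Coequalizer.le_f f p₁ U)).base r)).symm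
  have e₂ : ∀ r, p₂ (hW.fromSpec r) = hV.fromSpec (PrimeSpectrum.comap ψ.toRingHom r) := fun r =>
    (congr($(IsAffineOpen.SpecMap_appLE_fromSpec p₂ hV hW (FEt.Coequalizer.le_g f p₁ p₂ hp U)).base r)).symm
  have e₀ : ∀ a, f (hV.fromSpec a) = hU.fromSpec (PrimeSpectrum.comap (f.app U).hom a) := fun a => by
    have := congr($(IsAffineOpen.SpecMap_appLE_fromSpec f hU hV le_rfl).base a)
    rw [← Scheme.Hom.app_eq_appLE] at this
    exact this.symm
  have hinjV : Function.Injective hV.fromSpec := hV.fromSpec.isOpenEmbedding.injective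
  have hrel : ∀ a b : PrimeSpectrum Γ(X, V),
      Alg.Rel φ ψ a.asIdeal b.asIdeal ↔ ∃ r : R, p₁ r = hV.fromSpec a ∧ p₂ r = hV.fromSpec b := by
    intro a b
    constructor
    · rintro ⟨r, hr, hra, hrb⟩
      exact ⟨hW.fromSpec ⟨r, hr⟩, (e₁ _).trans (congrArg _ (PrimeSpectrum.ext hra)),
        (e₂ _).trans (congrArg _ (PrimeSpectrum.ext hrb))⟩
    · rintro ⟨r, hr₁, hr₂⟩
      have hrW : r ∈ W := by
        show p₁ r ∈ V
        rw [hr₁, ← SetLike.mem_coe, ← hV.range_fromSpec]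
        exact ⟨a, rfl⟩
      have hr : hW.fromSpec (hW.primeIdealOf ⟨r, hrW⟩) = r := hW.fromSpec_primeIdealOf _
      rw [← hr] at hr₁ hr₂
      refine ⟨(hW.primeIdealOf ⟨r, hrW⟩).asIdeal, inferInstance, ?_, ?_⟩
      · exact congrArg PrimeSpectrum.asIdeal (hinjV ((e₁ _).symm.trans hr₁))
      · exact congrArg PrimeSpectrum.asIdeal (hinjV ((e₂ _).symm.trans hr₂))
  have hprime : ∀ {a b : Ideal Γ(X, V)}, Alg.Rel φ ψ a b → a.IsPrime ∧ b.IsPrime := by
    rintro a b ⟨r, hr, rfl, rfl⟩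
    exact ⟨inferInstance, inferInstance⟩
  let a := hV.primeIdealOf ⟨x, hxU⟩
  let a' := hV.primeIdealOf ⟨x', hx'U⟩
  have hax : hV.fromSpec a = x := hV.fromSpec_primeIdealOf _
  have hax' : hV.fromSpec a' = x' := hV.fromSpec_primeIdealOf _
  have hsub : PrimeSpectrum.comap (FEt.Coequalizer.sub f p₁ p₂ hp U).subtype a =
      PrimeSpectrum.comap (FEt.Coequalizer.sub f p₁ p₂ hp U).subtype a' := by
    apply (FEt.Coequalizer.ι f p₁ p₂ hp ⟨U, hU⟩).isOpenEmbedding.injective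
    have key := FEt.Coequalizer.incl_ι f p₁ p₂ hp ⟨U, hU⟩
    have e : π f p₁ p₂ hp (hV.fromSpec a) = π f p₁ p₂ hp (hV.fromSpec a') :=
      (congrArg _ hax).trans (hx.trans (congrArg _ hax').symm)
    exact (congr($(key).base a)).trans (e.trans (congr($(key).base a')).symm)
  let p := PrimeSpectrum.comap (f.app U).hom a
  have hp' : PrimeSpectrum.comap (f.app U).hom a' = p := by
    have h1 := congrArg (PrimeSpectrum.comap
      ((FEt.Coequalizer.diagramMap f p₁ p₂ hp).app (op U)).hom) hsub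
    exact h1.symm
  haveI : a.asIdeal.LiesOver p.asIdeal := ⟨rfl⟩
  haveI : a'.asIdeal.LiesOver p.asIdeal := ⟨(congrArg PrimeSpectrum.asIdeal hp').symm⟩
  have hfin' : (p.asIdeal.primesOver Γ(X, V)).Finite := by
    refine Set.Finite.subset (((hfin (f x)).preimage hinjV.injOn).image PrimeSpectrum.asIdeal) ?_
    rintro b ⟨hb, hbp⟩
    refine ⟨⟨b, hb⟩, ?_, rfl⟩
    show f (hV.fromSpec ⟨b, hb⟩) = f x
    rw [e₀, show PrimeSpectrum.comap (f.app U).hom ⟨b, hb⟩ = p from PrimeSpectrum.ext hbp.over.symm,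
      ← e₀, hax]
  rw [← hax, ← hax', ← hrel]
  refine Alg.rel_of_comap_eq φ ψ p.asIdeal hfin' (fun b hb => (hrel ⟨b, hb⟩ ⟨b, hb⟩).mpr (heqv.refl _))
    (fun b c hbc => (hrel ⟨c, (hprime hbc).2⟩ ⟨b, (hprime hbc).1⟩).mpr
      (heqv.symm ((hrel ⟨b, (hprime hbc).1⟩ ⟨c, (hprime hbc).2⟩).mp hbc)))
    (fun b c d hbc hcd => (hrel ⟨b, (hprime hbc).1⟩ ⟨d, (hprime hcd).2⟩).mpr
      (heqv.trans ((hrel ⟨b, (hprime hbc).1⟩ ⟨c, (hprime hbc).2⟩).mp hbc)
        ((hrel ⟨c, (hprime hcd).1⟩ ⟨d, (hprime hcd).2⟩).mp hcd))) _ _ ?_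
  exact congrArg PrimeSpectrum.asIdeal hsub

end Main

end

end Groth.Agent.Lib.IntCoeq.Geom
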